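import Mathlib.CategoryTheory.Limits.Indization.IndObject
import Mathlib.CategoryTheory.Functor.KanExtension.Adjunction
import Mathlib.CategoryTheory.Functor.ReflectsIso.Basic
import Mathlib.CategoryTheory.Adjunction.FullyFaithful
import Mathlib.CategoryTheory.Filtered.Final
import Mathlib.CategoryTheory.Adjunction.Limits
import Mathlib.CategoryTheory.Limits.FunctorCategory.Basic
import Mathlib.CategoryTheory.Limits.Types.Filtered

/-!
Left Kan extension of presheaves along a functor, on representables and on ind-objects.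
-/

universe u

open CategoryTheory CategoryTheory.Limits Opposite

namespace Groth.SitesTopoi.Presheaf

variable {C : Type u} [SmallCategory C] {C' : Type u} [SmallCategory C'] (u' : C ⥤ C')

/-- The left Kan extension of presheaves. -/
noncomputable abbrev lanF : (Cᵒᵖ ⥤ Type u) ⥤ (C'ᵒᵖ ⥤ Type u) := u'.op.lan

/-- The unit of a representable, evaluated at the identity. -/
noncomputable def univElt (X : C) : ((lanF u').obj (yoneda.obj X)).obj (op (u'.obj X)) :=
  ((u'.op.lanAdjunction (Type u)).unit.app (yoneda.obj X)).app (op X) (𝟙 X)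

/-- The map of a representable into the restriction of a representable. -/
def yonedaCmp (X : C) : yoneda.obj X ⟶ u'.op ⋙ yoneda.obj (u'.obj X) :=
  CategoryTheory.yonedaEquiv.symm (𝟙 (u'.obj X) : _)

lemma yonedaCmp_app {X Z : C} (f : Z ⟶ X) : (yonedaCmp u' X).app (op Z) f = u'.map f :=
  (Category.comp_id _)

/-- The left Kan extension of a representable is representable. -/
noncomputable def lanYonedaIso (X : C) : (lanF u').obj (yoneda.obj X) ≅ yoneda.obj (u'.obj X) where
  hom := ((u'.op.lanAdjunction (Type u)).homEquiv _ _).symm (yonedaCmp u' X)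
  inv := CategoryTheory.yonedaEquiv.symm (univElt u' X)
  hom_inv_id := by
    refine ((u'.op.lanAdjunction (Type u)).homEquiv _ _).injective (CategoryTheory.yonedaEquiv.injective ?_)
    rw [Adjunction.homEquiv_naturality_right, Equiv.apply_symm_apply, Adjunction.homEquiv_id]
    change (CategoryTheory.yonedaEquiv.symm (univElt u' X)).app _ ((yonedaCmp u' X).app (op X) (𝟙 X)) = _
    rw [yonedaCmp_app, u'.map_id]
    exact CategoryTheory.yonedaEquiv.apply_symm_apply (univElt u' X)
  inv_hom_id := by
    refine CategoryTheory.yonedaEquiv.injective ?_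
    change (((u'.op.lanAdjunction (Type u)).homEquiv _ _).symm (yonedaCmp u' X)).app _
      ((CategoryTheory.yonedaEquiv.symm (univElt u' X)).app (op (u'.obj X)) (𝟙 _)) = 𝟙 _
    rw [show (CategoryTheory.yonedaEquiv.symm (univElt u' X)).app (op (u'.obj X)) (𝟙 _) = univElt u' X from
      CategoryTheory.yonedaEquiv.apply_symm_apply (univElt u' X)]
    have h := congrArg (fun φ => φ.app (op X) (𝟙 X))
      (((u'.op.lanAdjunction (Type u)).homEquiv _ _).apply_symm_apply (yonedaCmp u' X))
    rw [Adjunction.homEquiv_unit] at h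
    exact h.trans ((yonedaCmp_app u' (𝟙 X)).trans (u'.map_id X))

lemma lanYonedaIso_naturality {X Y : C} (f : X ⟶ Y) :
    (lanF u').map (yoneda.map f) ≫ (lanYonedaIso u' Y).hom = (lanYonedaIso u' X).hom ≫ yoneda.map (u'.map f) := by
  refine ((u'.op.lanAdjunction (Type u)).homEquiv _ _).injective (CategoryTheory.yonedaEquiv.injective ?_)
  rw [Adjunction.homEquiv_naturality_left, Adjunction.homEquiv_naturality_right]
  simp only [lanYonedaIso, Equiv.apply_symm_apply]
  change (yonedaCmp u' Y).app (op X) (𝟙 X ≫ f) = (yonedaCmp u' X).app (op X) (𝟙 X) ≫ u'.map f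
  rw [yonedaCmp_app, yonedaCmp_app, Category.id_comp, u'.map_id]
  exact (Category.id_comp _).symm

lemma map_eq_of_lan_map_yoneda_eq {X Y : C} {f g : X ⟶ Y}
    (h : (lanF u').map (yoneda.map f) = (lanF u').map (yoneda.map g)) : u'.map f = u'.map g := by
  refine yoneda.map_injective ((cancel_epi (lanYonedaIso u' X).hom).1 ?_)
  rw [← lanYonedaIso_naturality, ← lanYonedaIso_naturality, h]

lemma lan_map_yoneda_eq_of_map_eq {X Y : C} {f g : X ⟶ Y} (h : u'.map f = u'.map g) :
    (lanF u').map (yoneda.map f) = (lanF u').map (yoneda.map g) := by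
  refine (cancel_mono (lanYonedaIso u' Y).hom).1 ?_
  rw [lanYonedaIso_naturality, lanYonedaIso_naturality, h]

lemma full_of_lan_map_surjective
    (h : ∀ X Y : C, Function.Surjective (fun φ : yoneda.obj X ⟶ yoneda.obj Y => (lanF u').map φ)) : u'.Full := by
  refine ⟨fun {X Y} g => ?_⟩
  obtain ⟨φ, hφ⟩ := h X Y ((lanYonedaIso u' X).hom ≫ yoneda.map g ≫ (lanYonedaIso u' Y).inv)
  obtain ⟨f, rfl⟩ := yoneda.map_surjective φ
  refine ⟨f, yoneda.map_injective ((cancel_epi (lanYonedaIso u' X).hom).1 ?_)⟩
  rw [← lanYonedaIso_naturality, show (lanF u').map (yoneda.map f) = _ from hφ]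
  simp

/-- A map of representables into an ind-object comes from a stage. -/
lemma exists_fac {A : Cᵒᵖ ⥤ Type u} (P : IndObjectPresentation A) {X : C} (a : yoneda.obj X ⟶ A) :
    ∃ (i : P.I) (α : X ⟶ P.F.obj i), yoneda.map α ≫ P.ι.app i = a := by
  obtain ⟨i, α, hα⟩ := Types.jointly_surjective _
    (isColimitOfPreserves ((evaluation Cᵒᵖ (Type u)).obj (op X)) P.isColimit) (CategoryTheory.yonedaEquiv a)
  refine ⟨i, α, CategoryTheory.yonedaEquiv.injective ?_⟩
  change (P.ι.app i).app (op X) (𝟙 X ≫ α) = _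
  rw [Category.id_comp]
  exact hα

lemma lan_map_injective_of_faithful [u'.Faithful] {F G : Cᵒᵖ ⥤ Type u} (hG : IsIndObject G) :
    Function.Injective (fun φ : F ⟶ G => (lanF u').map φ) := by
  intro φ φ' h
  obtain ⟨P⟩ := hG.nonempty_presentation
  ext ⟨X⟩ x
  obtain ⟨i, α, hα⟩ := exists_fac P (CategoryTheory.yonedaEquiv.symm x ≫ φ)
  obtain ⟨j, β, hβ⟩ := exists_fac P (CategoryTheory.yonedaEquiv.symm x ≫ φ')
  have : PreservesColimitsOfSize.{u, u} (lanF u') := (u'.op.lanAdjunction (Type u)).leftAdjoint_preservesColimits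
  let c := isColimitOfPreserves ((evaluation C'ᵒᵖ (Type u)).obj (op (u'.obj X)))
    (isColimitOfPreserves (lanF u') P.isColimit)
  have e : (lanF u').map (yoneda.map α ≫ P.ι.app i) = (lanF u').map (yoneda.map β ≫ P.ι.app j) := by
    simp only [hα, hβ, Functor.map_comp]
    exact congrArg (_ ≫ ·) h
  let xi := ((lanF u').map (yoneda.map α)).app (op (u'.obj X)) (univElt u' X)
  let xj := ((lanF u').map (yoneda.map β)).app (op (u'.obj X)) (univElt u' X)
  have e' := congrArg (fun t => t.app (op (u'.obj X)) (univElt u' X)) e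
  simp only [Functor.map_comp] at e'
  obtain ⟨k, s, t, hst⟩ := (Types.FilteredColimit.isColimit_eq_iff _ c (xi := xi) (xj := xj)).1 e'
  have hk : (lanF u').map (yoneda.map (α ≫ P.F.map s)) = (lanF u').map (yoneda.map (β ≫ P.F.map t)) := by
    rw [← cancel_epi (lanYonedaIso u' X).inv]
    refine CategoryTheory.yonedaEquiv.injective ?_
    change ((lanF u').map _).app _ ((CategoryTheory.yonedaEquiv.symm (univElt u' X)).app _ (𝟙 _)) =
      ((lanF u').map _).app _ ((CategoryTheory.yonedaEquiv.symm (univElt u' X)).app _ (𝟙 _))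
    rw [show (CategoryTheory.yonedaEquiv.symm (univElt u' X)).app (op (u'.obj X)) (𝟙 _) = univElt u' X from
      CategoryTheory.yonedaEquiv.apply_symm_apply (univElt u' X), yoneda.map_comp, yoneda.map_comp,
      Functor.map_comp, Functor.map_comp]
    exact hst
  have hk' := u'.map_injective (map_eq_of_lan_map_yoneda_eq u' hk)
  have : CategoryTheory.yonedaEquiv.symm x ≫ φ = CategoryTheory.yonedaEquiv.symm x ≫ φ' := by
    have hi : yoneda.map (P.F.map s) ≫ P.ι.app k = P.ι.app i := (Cocone.w (Cocone.mk G P.ι) s)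
    have hj : yoneda.map (P.F.map t) ≫ P.ι.app k = P.ι.app j := (Cocone.w (Cocone.mk G P.ι) t)
    rw [← hα, ← hβ, ← hi, ← hj, ← yoneda.map_comp_assoc, ← yoneda.map_comp_assoc, hk']
  have := congrArg CategoryTheory.yonedaEquiv this
  simpa [CategoryTheory.yonedaEquiv_comp] using this

end Groth.SitesTopoi.Presheaf
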